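import Groth.Agent.WeilFin.Criterion
import Groth.Agent.SerreDual.ExtShRep
import Groth.Agent.Surf15.HomShIso

/-!
# Boundedness under sums, tensor products and duals
-/

set_option autoImplicit false
set_option linter.style.haveILetI false
set_option linter.unusedSectionVars false
set_option backward.isDefEq.respectTransparency.types false

universe u

open CategoryTheory CategoryTheory.Limits AlgebraicGeometry Opposite TopologicalSpace
open Groth.Agent.Coherent Groth.Agent.PicLib Groth.Agent.AmpleLib Groth.Agent.EulerLib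

namespace Groth.Agent.WeilFin

variable {X : Scheme.{u}}

local notation:70 A:70 " ⊙ " B:71 => CohB1.tensorMod A B

/-- Associativity. -/
noncomputable def assoc (A B C : X.Modules) : (A ⊙ B) ⊙ C ≅ A ⊙ (B ⊙ C) :=
  DCat.TensorAssoc.assocIso A B C

/-- `(A ⊗ B) ⊗ (C ⊗ D) ≅ (A ⊗ C) ⊗ (B ⊗ D)`. -/
noncomputable def exch (A B C D : X.Modules) : (A ⊙ B) ⊙ (C ⊙ D) ≅ (A ⊙ C) ⊙ (B ⊙ D) :=
  assoc A B (C ⊙ D) ≪≫ AmpleLib.tensorIso (Iso.refl A) ((assoc B C D).symm ≪≫
    AmpleLib.tensorIso (tensorComm B C) (Iso.refl D) ≪≫ assoc C B D) ≪≫ (assoc A C (B ⊙ D)).symm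

theorem Dom.tensor {M M' A B : X.Modules} (h : Dom M A) (h' : Dom M' B) : Dom (M ⊙ M') (A ⊙ B) := by
  have h1 : Dom (M ⊙ B) (A ⊙ B) := Dom.map (SerreDual.twistF B) h
  have h2 : Dom (M' ⊙ M) (B ⊙ M) := Dom.map (SerreDual.twistF M) h'
  exact (((h2.of_iso (tensorComm M B)).trans h1) |> fun h3 =>
    ((Dom.refl (M ⊙ M')).of_iso (tensorComm M' M)).trans h3)

theorem dom_tensor_biprod {M A E₁ E₂ : X.Modules} (h₁ : Dom M (A ⊙ E₁)) (h₂ : Dom M (A ⊙ E₂)) :
    Dom M (A ⊙ (E₁ ⊞ E₂)) := by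
  refine Dom.of_iso ?_ (tensorComm A (E₁ ⊞ E₂))
  let F := SerreDual.twistF A
  show Dom M (F.obj (E₁ ⊞ E₂))
  refine Dom.of_total (J := Bool) (Y := fun b => cond b (F.obj E₁) (F.obj E₂)) (fun b => ?_)
    (fun b => match b with | true => F.map biprod.fst | false => F.map biprod.snd)
    (fun b => match b with | true => F.map biprod.inl | false => F.map biprod.inr) ?_
  · cases b
    · exact h₂.of_iso (tensorComm E₂ A)
    · exact h₁.of_iso (tensorComm E₁ A)
  · rw [Fintype.sum_bool]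
    simp only [← F.map_comp, ← F.map_add, biprod.total, CategoryTheory.Functor.map_id]

theorem Bdd.biprod {E₁ E₂ : X.Modules} (h₁ : Bdd E₁) (h₂ : Bdd E₂) : Bdd (E₁ ⊞ E₂) := by
  obtain ⟨M₁, hM₁, d₁⟩ := h₁
  obtain ⟨M₂, hM₂, d₂⟩ := h₂
  refine ⟨M₁ ⊙ M₂, isFinLocFree_tensorMod hM₁ hM₂, fun m => ?_⟩
  have key : ∀ (m a b : ℕ), Dom (M₁ ⊙ M₂)
      ((CohB1.tensorPow (E₁ ⊞ E₂) m) ⊙ (CohB1.tensorPow E₁ a ⊙ CohB1.tensorPow E₂ b)) := by
    intro m
    induction m with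
    | zero => exact fun a b => ((d₁ a).tensor (d₂ b)).of_iso (unitTensorIso _)
    | succ m ih =>
      intro a b
      let A := CohB1.tensorPow (E₁ ⊞ E₂) m
      let C := CohB1.tensorPow E₁ a ⊙ CohB1.tensorPow E₂ b
      refine Dom.of_iso ?_ (assoc A (E₁ ⊞ E₂) C ≪≫ AmpleLib.tensorIso (Iso.refl A) (tensorComm (E₁ ⊞ E₂) C) ≪≫
        (assoc A C (E₁ ⊞ E₂)).symm)
      refine dom_tensor_biprod ((ih (a + 1) b).of_iso ?_) ((ih a (b + 1)).of_iso ?_)
      · exact assoc A C E₁ ≪≫ AmpleLib.tensorIso (Iso.refl A) (assoc _ _ _ ≪≫ AmpleLib.tensorIso (Iso.refl _) (tensorComm _ _) ≪≫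
          (assoc _ _ _).symm)
      · exact assoc A C E₂ ≪≫ AmpleLib.tensorIso (Iso.refl A) (assoc _ _ _)
  exact (key m 0 0).of_iso ((unitTensorIso _).symm ≪≫ tensorComm _ _ ≪≫
    AmpleLib.tensorIso (Iso.refl _) (unitTensorIso _).symm)

theorem nonempty_tensorPow_tensor (E₁ E₂ : X.Modules) : ∀ m : ℕ,
    Nonempty (CohB1.tensorPow (E₁ ⊙ E₂) m ≅ CohB1.tensorPow E₁ m ⊙ CohB1.tensorPow E₂ m)
  | 0 => ⟨(unitTensorIso _).symm⟩
  | m + 1 => by
    obtain ⟨e⟩ := nonempty_tensorPow_tensor E₁ E₂ m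
    exact ⟨AmpleLib.tensorIso e (Iso.refl _) ≪≫ exch _ _ E₁ E₂⟩

theorem Bdd.tensor {E₁ E₂ : X.Modules} (h₁ : Bdd E₁) (h₂ : Bdd E₂) : Bdd (E₁ ⊙ E₂) := by
  obtain ⟨M₁, hM₁, d₁⟩ := h₁
  obtain ⟨M₂, hM₂, d₂⟩ := h₂
  refine ⟨M₁ ⊙ M₂, isFinLocFree_tensorMod hM₁ hM₂, fun m => ?_⟩
  obtain ⟨e⟩ := nonempty_tensorPow_tensor E₁ E₂ m
  exact ((d₁ m).tensor (d₂ m)).of_iso e

theorem nonempty_retract_tensorPow {E E' : X.Modules} (r : Retract E E') : ∀ m : ℕ,
    Nonempty (Retract (CohB1.tensorPow E m) (CohB1.tensorPow E' m))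
  | 0 => ⟨Retract.refl _⟩
  | m + 1 => by
    obtain ⟨q⟩ := nonempty_retract_tensorPow r m
    let r₁ : Retract (CohB1.tensorPow E m ⊙ E) (CohB1.tensorPow E' m ⊙ E) := q.map (SerreDual.twistF E)
    let r₂ : Retract (E ⊙ CohB1.tensorPow E' m) (E' ⊙ CohB1.tensorPow E' m) := r.map (SerreDual.twistF _)
    exact ⟨(r₁.trans ((Retract.ofIso (tensorComm _ _)).trans r₂)).trans (Retract.ofIso (tensorComm _ _))⟩

theorem Bdd.of_retract {E E' : X.Modules} (h : Bdd E') (r : Retract E E') : Bdd E := by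
  obtain ⟨M, hM, d⟩ := h
  refine ⟨M, hM, fun m => ?_⟩
  obtain ⟨q⟩ := nonempty_retract_tensorPow r m
  exact (d m).of_retract q

/-- The dual. -/
noncomputable abbrev dual (E : X.Modules) : X.Modules := internalHom E (Coh.structureModule X)

theorem Dom.dual {M Y : X.Modules} (h : Dom M Y) : Dom (WeilFin.dual M) (WeilFin.dual Y) := by
  obtain ⟨n, a, b, hab⟩ := h
  refine ⟨n, fun i => SerreDual.precompApp (b i) _, fun i => SerreDual.precompApp (a i) _, ?_⟩
  rw [Finset.sum_congr rfl fun i _ => (SerreDual.precompApp_comp (a i) (b i) _).symm,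
    ← SerreDual.precompApp_sum, hab, SerreDual.precompApp_id]

theorem nonempty_dual_structure : Nonempty (dual (Coh.structureModule X) ≅ Coh.structureModule X) := by
  let w : internalHomFunctor (Coh.structureModule X) ≅ 𝟭 X.Modules :=
    ((tensorHomAdj (Coh.structureModule X)).ofNatIsoLeft (SerreDual.unitTensENatIso (X := X))).rightAdjointUniq
      Adjunction.id
  exact ⟨w.app _⟩

theorem nonempty_dual_tensor {A : X.Modules} (hA : FlatMod.IsFinLocFree A) (B : X.Modules) :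
    Nonempty (dual (A ⊙ B) ≅ dual A ⊙ dual B) := by
  obtain ⟨w⟩ := SerreDual.nonempty_internalHom_tensor A B
  obtain ⟨v⟩ := SerreDual.nonempty_internalHom_eq_tensor hA (dual B)
  exact ⟨w.app _ ≪≫ v⟩

theorem nonempty_dual_dual {E : X.Modules} (hE : FlatMod.IsFinLocFree E) :
    Nonempty (E ≅ dual (dual E)) := by
  haveI := isIso_contract hE (Coh.structureModule X)
  exact ⟨(unitTensorIso E).symm ≪≫ tensorComm _ _ ≪≫ asIso (contractBilin E (Coh.structureModule X)).desc⟩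

theorem nonempty_tensorPow_dual {E : X.Modules} (hE : FlatMod.IsFinLocFree E) : ∀ m : ℕ,
    Nonempty (CohB1.tensorPow (dual E) m ≅ dual (CohB1.tensorPow E m))
  | 0 => ⟨(nonempty_dual_structure.some).symm⟩
  | m + 1 => by
    obtain ⟨e⟩ := nonempty_tensorPow_dual hE m
    obtain ⟨w⟩ := nonempty_dual_tensor (isFinLocFree_tensorPow hE m) E
    exact ⟨AmpleLib.tensorIso e (Iso.refl _) ≪≫ w.symm⟩

theorem Bdd.dual {E : X.Modules} (hE : FlatMod.IsFinLocFree E) (h : Bdd E) : Bdd (WeilFin.dual E) := by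
  obtain ⟨M, hM, d⟩ := h
  refine ⟨WeilFin.dual M, CohBC.isFinLocFree_internalHom hM (CohBC.isFinLocFree_structureModule X), fun m => ?_⟩
  obtain ⟨e⟩ := nonempty_tensorPow_dual hE m
  exact (d m).dual.of_iso e

theorem nonempty_refHull_dual (E : X.Modules) : Nonempty (RefHull.dual E ≅ dual E) :=
  Surf15.nonempty_homSh_iso E _

theorem Bdd.congr {E E' : X.Modules} (h : Bdd E') (e : E ≅ E') : Bdd E := h.of_retract (Retract.ofIso e)

theorem isFinLocFree_biprod {A B : X.Modules} (hA : FlatMod.IsFinLocFree A) (hB : FlatMod.IsFinLocFree B) :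
    FlatMod.IsFinLocFree (A ⊞ B) :=
  DCat.PerfTensor.isFinLocFree_of_iso (biprod.isoCoprod A B).symm
    (DCat.PerfTensor.isFinLocFree_of_iso (Sigma.whiskerEquiv (g := pairFunction A B) (Equiv.refl _)
      fun _ => Iso.refl _) (DCat.PerfTensor.isFinLocFree_sigma (pairFunction A B) fun j => by
        cases j <;> assumption) |> fun h => DCat.PerfTensor.isFinLocFree_of_iso
          (HasColimit.isoOfNatIso (Discrete.natIso fun j => by rcases j with ⟨⟨⟩⟩ <;> exact Iso.refl _)) h)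

end Groth.Agent.WeilFin
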