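import Groth.Agent.WeilFin.Abstract
import Groth.Agent.VB5.Endo
import Groth.Agent.Omega15.UnivConormal
import Groth.Agent.DCat.PerfTensor
import Groth.Agent.SerreDual.TwistEquiv
import Groth.Agent.SerreDual.ExtShTensor
import Groth.Agent.SerreDual.ExtShStalk
import Groth.Agent.CycLib28.PB.Ops.DualSeq
import Groth.Agent.Coherent.RpushSupport

/-!
# Bundles on a proper integral scheme: decompositions and multiplicities
-/

set_option autoImplicit false
set_option linter.style.haveILetI false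
set_option linter.unusedSectionVars false
set_option backward.isDefEq.respectTransparency.types false

universe u

open CategoryTheory CategoryTheory.Limits AlgebraicGeometry Opposite TopologicalSpace
open Groth.Agent.Coherent Groth.Agent.PicLib Groth.Agent.AmpleLib Groth.Agent.EulerLib Groth.Agent.CurveRR24

namespace Groth.Agent.WeilFin

variable {X : Scheme.{u}}

theorem isCoh_retract [IsLocallyNoetherian X] {A Y : X.Modules} (r : Retract A Y) (hY : Coh.IsCoh Y) :
    Coh.IsCoh A := by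
  let e : Y ⟶ Y := 𝟙 Y - r.r ≫ r.i
  have h1 : e ≫ r.r = 0 := by
    simp [e, Preadditive.sub_comp]
  let i : cokernel e ≅ A :=
    { hom := cokernel.desc e r.r h1
      inv := r.i ≫ cokernel.π e
      hom_inv_id := coequalizer.hom_ext (by
        show cokernel.π e ≫ cokernel.desc e r.r h1 ≫ r.i ≫ cokernel.π e = cokernel.π e ≫ 𝟙 _
        rw [cokernel.π_desc_assoc, Category.comp_id]
        have h := cokernel.condition e
        rw [Preadditive.sub_comp, Category.id_comp, sub_eq_zero, Category.assoc] at h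
        exact h.symm)
      inv_hom_id := by simp }
  exact Coherent.isCoh_of_iso i (Coherent.isCoh_cokernel e hY.1 hY)

theorem isFinLocFree_retract [IsLocallyNoetherian X] {A Y : X.Modules} (r : Retract A Y)
    (hY : FlatMod.IsFinLocFree Y) : FlatMod.IsFinLocFree A := by
  haveI := (isCoh_retract r (CohBC.isCoh_of_isFinLocFree hY)).1
  exact Omega15.isFinLocFree_of_retract hY r.i r.r r.retract

theorem isFinLocFree_tensorMod {A B : X.Modules} (hA : FlatMod.IsFinLocFree A) (hB : FlatMod.IsFinLocFree B) :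
    FlatMod.IsFinLocFree (CohB1.tensorMod A B) := DCat.PerfTensor.isFinLocFree_tensor hA hB

theorem isFinLocFree_tensorPow {E : X.Modules} (hE : FlatMod.IsFinLocFree E) :
    ∀ n, FlatMod.IsFinLocFree (CohB1.tensorPow E n)
  | 0 => CohBC.isFinLocFree_structureModule X
  | n + 1 => isFinLocFree_tensorMod (isFinLocFree_tensorPow hE n) hE

theorem exists_biprod_of_retract {T Y : X.Modules} (r : Retract T Y) :
    ∃ K : X.Modules, Nonempty (Y ≅ T ⊞ K) := by
  let S := ShortComplex.mk r.i (cokernel.π r.i) (cokernel.condition _)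
  haveI : Epi S.g := inferInstanceAs (Epi (cokernel.π r.i))
  exact ⟨_, ⟨(ShortComplex.Splitting.ofExactOfRetraction S (ShortComplex.exact_cokernel _) r.r r.retract
    inferInstance).isoBinaryBiproduct⟩⟩

noncomputable def retractFst {T K Y : X.Modules} (e : Y ≅ T ⊞ K) : Retract T Y :=
  ⟨biprod.inl ≫ e.inv, e.hom ≫ biprod.fst, by simp⟩

noncomputable def retractSnd {T K Y : X.Modules} (e : Y ≅ T ⊞ K) : Retract K Y :=
  ⟨biprod.inr ≫ e.inv, e.hom ≫ biprod.snd, by simp⟩

variable [IsIntegral X] [IsLocallyNoetherian X]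

theorem isZero_of_grk_zero {Y : X.Modules} (hY : FlatMod.IsFinLocFree Y) (h : VB5.grk Y = 0) : IsZero Y := by
  obtain ⟨r, hr⟩ := VB5.exists_rank hY
  exact VB5.isZero_of_rank_zero (by rw [VB5.grk_eq hr]; exact hr) h

theorem grk_pos {Y : X.Modules} (hY : FlatMod.IsFinLocFree Y) (h : ¬ IsZero Y) : 0 < VB5.grk Y :=
  Nat.pos_of_ne_zero fun h0 => h (isZero_of_grk_zero hY h0)

theorem grk_biprod {A B Y : X.Modules} (e : Y ≅ A ⊞ B) (hY : FlatMod.IsFinLocFree Y) :
    VB5.grk Y = VB5.grk A + VB5.grk B := by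
  let S := ShortComplex.mk (biprod.inl : A ⟶ A ⊞ B) biprod.snd biprod.inl_snd
  have s : S.Splitting := { r := biprod.fst, s := biprod.inr, f_r := biprod.inl_fst, s_g := biprod.inr_snd,
                            id := biprod.total }
  rw [VB5.grk_congr e]
  exact VB5.grk_additive (S := S) s.shortExact (Coherent.isCoh_of_iso e (CohBC.isCoh_of_isFinLocFree hY))

variable (k : Type u) [Field k] [X.Over (Spec (CommRingCat.of k))] [IsProper (X ↘ Spec (CommRingCat.of k))]

include k in
theorem indec_of_indecomposable {T : X.Modules} (hT : FlatMod.IsFinLocFree T) (h0 : ¬ IsZero T)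
    (hind : ∀ A B : X.Modules, Nonempty (T ≅ A ⊞ B) → IsZero A ∨ IsZero B) : Indec T :=
  ⟨h0, VB5.isIso_or_isIso_of_add k hT hind⟩

include k in
/-- Bundles have indecomposable summands. -/
theorem exists_indec_retract : ∀ (n : ℕ) {Y : X.Modules}, FlatMod.IsFinLocFree Y → ¬ IsZero Y → VB5.grk Y ≤ n →
    ∃ T : X.Modules, Indec T ∧ FlatMod.IsFinLocFree T ∧ Nonempty (Retract T Y)
  | 0, Y, hY, h0, hn => absurd (isZero_of_grk_zero hY (Nat.le_zero.1 hn)) h0
  | n + 1, Y, hY, h0, hn => by
    by_cases hind : ∀ A B : X.Modules, Nonempty (Y ≅ A ⊞ B) → IsZero A ∨ IsZero B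
    · exact ⟨Y, indec_of_indecomposable k hY h0 hind, hY, ⟨Retract.refl Y⟩⟩
    · push Not at hind
      obtain ⟨A, B, ⟨e⟩, hA, hB⟩ := hind
      have hAf := isFinLocFree_retract (retractFst e) hY
      have hBf := isFinLocFree_retract (retractSnd e) hY
      have h1 := grk_biprod e hY
      have h2 := grk_pos hBf hB
      obtain ⟨T, hT, hTf, ⟨r⟩⟩ := exists_indec_retract n hAf hA (by omega)
      exact ⟨T, hT, hTf, ⟨r.trans (retractFst e)⟩⟩

include k in
/-- Induction: split off an indecomposable summand. -/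
theorem exists_split {Y : X.Modules} (hY : FlatMod.IsFinLocFree Y) (h0 : ¬ IsZero Y) :
    ∃ T K : X.Modules, Indec T ∧ FlatMod.IsFinLocFree T ∧ FlatMod.IsFinLocFree K ∧
      Nonempty (Y ≅ T ⊞ K) ∧ VB5.grk K < VB5.grk Y := by
  obtain ⟨T, hT, hTf, ⟨r⟩⟩ := exists_indec_retract k _ hY h0 le_rfl
  obtain ⟨K, ⟨e⟩⟩ := exists_biprod_of_retract r
  exact ⟨T, K, hT, hTf, isFinLocFree_retract (retractSnd e) hY, ⟨e⟩,
    by have := grk_biprod e hY; have := grk_pos hTf hT.1; omega⟩

include k in
/-- A bundle all of whose indecomposable summands are dominated is dominated. -/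
theorem dom_of_indec_retracts (M : X.Modules) : ∀ (n : ℕ) {Y : X.Modules}, FlatMod.IsFinLocFree Y → VB5.grk Y ≤ n →
    (∀ T : X.Modules, Indec T → FlatMod.IsFinLocFree T → Retract T Y → Dom M T) → Dom M Y := by
  intro n
  induction n using Nat.strong_induction_on with
  | _ n ih =>
    intro Y hY hn h
    by_cases h0 : IsZero Y
    · exact ⟨0, Fin.elim0, Fin.elim0, h0.eq_of_src _ _⟩
    · obtain ⟨T, K, hT, hTf, hKf, ⟨e⟩, hlt⟩ := exists_split k hY h0
      exact ((h T hT hTf (retractFst e)).of_biprod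
        (ih (VB5.grk K) (by omega) hKf le_rfl fun T' hT' hT'f r => h T' hT' hT'f (r.trans (retractSnd e)))).of_iso e

variable {T : X.Modules} (hT : Indec T) (hTf : FlatMod.IsFinLocFree T)

include hTf in
theorem mult_pos_iff {Y : X.Modules} (hY : FlatMod.IsFinLocFree Y) :
    mult k hT Y ≠ 0 ↔ Nonempty (Retract T Y) := by
  haveI := VB5.finite_hom k hTf hY
  exact ⟨retract_of_mult_ne_zero k hT, fun ⟨r⟩ => mult_ne_zero k hT r⟩

include hTf in
theorem mult_add {A B Y : X.Modules} (e : Y ≅ A ⊞ B) (hY : FlatMod.IsFinLocFree Y) :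
    mult k hT Y = mult k hT A + mult k hT B := by
  haveI := VB5.finite_hom k hTf (isFinLocFree_retract (retractFst e) hY)
  haveI := VB5.finite_hom k hTf (isFinLocFree_retract (retractSnd e) hY)
  rw [mult_congr k hT e, mult_biprod k hT]

include hTf in
theorem mult_sigma {J : Type} [Fintype J] (F : J → X.Modules) (hF : ∀ j, FlatMod.IsFinLocFree (F j)) :
    mult k hT (∐ F) = ∑ j, mult k hT (F j) := by
  classical
  haveI := fun j => VB5.finite_hom k hTf (hF j)
  haveI : HasFiniteBiproducts X.Modules := HasFiniteBiproducts.of_hasFiniteCoproducts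
  rw [← mult_congr k hT (biproduct.isoCoproduct F)]
  exact mult_eq_sum k hT (biproduct.π F) (biproduct.ι F) (fun j => biproduct.ι_π_self F j)
    (fun i j h => biproduct.ι_π_ne F h) biproduct.total

include hTf in
/-- An indecomposable dominated bundle is a summand. -/
theorem mult_ne_zero_of_dom {M : X.Modules} (hM : FlatMod.IsFinLocFree M) (h : Dom M T) :
    mult k hT M ≠ 0 := by
  obtain ⟨n, a, b, hab⟩ := h
  obtain ⟨i, -, hi⟩ := hT.exists_isIso_of_sum Finset.univ _ (by rw [hab]; infer_instance)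
  exact (mult_pos_iff k hT hTf hM).2 (Indec.retract_of_isIso hi)

omit hT in
include k in
/-- An indecomposable retract of an indecomposable is everything. -/
theorem nonempty_iso_of_retract {T₀ : X.Modules} (hT₀ : Indec T₀) (hT : Indec T) (r : Retract T T₀) :
    Nonempty (T ≅ T₀) := by
  obtain ⟨K, ⟨e⟩⟩ := exists_biprod_of_retract r
  have key : (e.hom ≫ biprod.fst ≫ biprod.inl ≫ e.inv) + (e.hom ≫ biprod.snd ≫ biprod.inr ≫ e.inv) = 𝟙 T₀ := by
    calc _ = e.hom ≫ (biprod.fst ≫ biprod.inl + biprod.snd ≫ biprod.inr : T ⊞ K ⟶ T ⊞ K) ≫ e.inv := by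
          simp only [Preadditive.comp_add, Preadditive.add_comp, Category.assoc]
      _ = _ := by rw [biprod.total]; simp
  rcases hT₀.2 _ _ (by rw [key]; infer_instance) with h | h
  · haveI : IsIso ((e.hom ≫ biprod.fst) ≫ (biprod.inl ≫ e.inv) : T₀ ⟶ T₀) := by
      simpa only [Category.assoc] using h
    haveI : Epi (biprod.inl ≫ e.inv : T ⟶ T₀) := epi_of_epi (e.hom ≫ biprod.fst) _
    haveI : IsSplitMono (biprod.inl ≫ e.inv : T ⟶ T₀) := IsSplitMono.mk' ⟨e.hom ≫ biprod.fst, (retractFst e).retract⟩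
    haveI : IsIso (biprod.inl ≫ e.inv : T ⟶ T₀) := isIso_of_epi_of_isSplitMono _
    exact ⟨asIso (biprod.inl ≫ e.inv)⟩
  · refine absurd ((IsZero.iff_id_eq_zero T).2 ?_) hT.1
    haveI := h
    have h2 : (biprod.inl ≫ e.inv) ≫ (e.hom ≫ biprod.snd ≫ biprod.inr ≫ e.inv) =
        (0 : T ⟶ T₀) ≫ (e.hom ≫ biprod.snd ≫ biprod.inr ≫ e.inv) := by simp
    have hz : (biprod.inl ≫ e.inv : T ⟶ T₀) = 0 := (cancel_mono _).1 h2
    have hr := (retractFst e).retract
    simp only [retractFst] at hr
    rw [← hr, hz, zero_comp]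

omit hT hTf in
include k in
/-- Finitely many indecomposables occur in a bundle. -/
theorem exists_finite_indec : ∀ (n : ℕ) {M : X.Modules}, FlatMod.IsFinLocFree M → VB5.grk M ≤ n →
    ∃ (s : ℕ) (Ts : Fin s → X.Modules), ∀ (T : X.Modules) (hT : Indec T), FlatMod.IsFinLocFree T →
      mult k hT M ≠ 0 → ∃ j, Nonempty (T ≅ Ts j) := by
  intro n
  induction n using Nat.strong_induction_on with
  | _ n ih =>
    intro M hM hn
    by_cases h0 : IsZero M
    · exact ⟨0, Fin.elim0, fun T hT _ h => absurd (mult_of_isZero k hT h0) h⟩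
    · obtain ⟨T₀, K, hT₀, hT₀f, hKf, ⟨e⟩, hlt⟩ := exists_split k hM h0
      obtain ⟨s, Ts, hs⟩ := ih (VB5.grk K) (by omega) hKf le_rfl
      refine ⟨s + 1, Fin.cons T₀ Ts, fun T hT hTf h => ?_⟩
      rw [mult_add k hT hTf e hM] at h
      by_cases hK : mult k hT K = 0
      · obtain ⟨r⟩ := (mult_pos_iff k hT hTf hT₀f).1 (by omega)
        exact ⟨0, by rw [Fin.cons_zero]; exact nonempty_iso_of_retract k hT₀ hT r⟩
      · obtain ⟨j, hj⟩ := hs T hT hTf hK
        exact ⟨j.succ, by rw [Fin.cons_succ]; exact hj⟩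

omit hT hTf in
include k in
/-- Krull–Schmidt: bundles with the same multiplicities are isomorphic. -/
theorem nonempty_iso_of_mult : ∀ (n : ℕ) {Y Y' : X.Modules}, FlatMod.IsFinLocFree Y → FlatMod.IsFinLocFree Y' →
    VB5.grk Y ≤ n → (∀ (T : X.Modules) (hT : Indec T), FlatMod.IsFinLocFree T → mult k hT Y = mult k hT Y') →
    Nonempty (Y ≅ Y') := by
  intro n
  induction n using Nat.strong_induction_on with
  | _ n ih =>
    intro Y Y' hY hY' hn h
    by_cases h0 : IsZero Y
    · refine ⟨h0.iso ?_⟩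
      by_contra h0'
      obtain ⟨T, hT, hTf, ⟨r⟩⟩ := exists_indec_retract k _ hY' h0' le_rfl
      exact (mult_pos_iff k hT hTf hY').2 ⟨r⟩ ((h T hT hTf).symm.trans (mult_of_isZero k hT h0))
    · obtain ⟨T₀, K, hT₀, hT₀f, hKf, ⟨e⟩, hlt⟩ := exists_split k hY h0
      obtain ⟨r⟩ := (mult_pos_iff k hT₀ hT₀f hY').1
        (h T₀ hT₀ hT₀f ▸ (mult_pos_iff k hT₀ hT₀f hY).2 ⟨retractFst e⟩)
      obtain ⟨K', ⟨e'⟩⟩ := exists_biprod_of_retract r
      obtain ⟨i⟩ := ih (VB5.grk K) (by omega) hKf (isFinLocFree_retract (retractSnd e') hY') le_rfl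
        fun T hT hTf => by
          have := h T hT hTf
          rw [mult_add k hT hTf e hY, mult_add k hT hTf e' hY'] at this
          omega
      exact ⟨e ≪≫ biprod.mapIso (Iso.refl T₀) i ≪≫ e'.symm⟩

end Groth.Agent.WeilFin
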