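import Groth.Agent.WeilFin.Ops
import Groth.Agent.VB5.Jointly
import Groth.Agent.VB5.Bound
import Groth.Agent.VB5.Sections
import Groth.Agent.VB5.DualDeg
import Groth.Agent.VarietyLib.CurveDegreeApps
import Groth.Agent.CycLib28.PB.Ops.TensorFree

/-!
# Weil finite bundles are semistable of degree zero
-/

set_option autoImplicit false
set_option linter.style.haveILetI false
set_option linter.unusedSectionVars false
set_option backward.isDefEq.respectTransparency.types false

universe u

open CategoryTheory CategoryTheory.Limits AlgebraicGeometry Opposite TopologicalSpace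
open Groth.Agent.Coherent Groth.Agent.PicLib Groth.Agent.AmpleLib Groth.Agent.EulerLib Groth.Agent.CurveRR24
open Groth.Agent.VB5

namespace Groth.Agent.WeilFin

variable {X : Scheme.{u}}

theorem exists_mono_tensorPow {F E : X.Modules} (hF : FlatMod.IsFinLocFree F) (hE : FlatMod.IsFinLocFree E)
    (i : F ⟶ E) [Mono i] : ∀ m, ∃ j : CohB1.tensorPow F m ⟶ CohB1.tensorPow E m, Mono j
  | 0 => ⟨𝟙 (Coh.structureModule X), inferInstanceAs (Mono (𝟙 (Coh.structureModule X)))⟩
  | m + 1 => by
    obtain ⟨j, hj⟩ := exists_mono_tensorPow hF hE i m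
    haveI := VB5.preservesMono_twistF hF
    haveI := VB5.preservesMono_twistF (isFinLocFree_tensorPow hE m)
    haveI := hj
    let f₁ : (SerreDual.twistF F).obj (CohB1.tensorPow F m) ⟶ (SerreDual.twistF F).obj (CohB1.tensorPow E m) :=
      (SerreDual.twistF F).map j
    let f₂ := (SerreDual.twistF (CohB1.tensorPow E m)).map i
    have h₁ : Mono f₁ := (SerreDual.twistF F).map_mono j
    have h₂ : Mono f₂ := (SerreDual.twistF (CohB1.tensorPow E m)).map_mono i
    exact ⟨f₁ ≫ (AmpleLib.tensorComm _ _).hom ≫ f₂ ≫ (AmpleLib.tensorComm _ _).hom,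
      @mono_comp _ _ _ _ _ _ h₁ _ (@mono_comp _ _ _ _ _ _ (IsIso.mono_of_iso _) _
        (@mono_comp _ _ _ _ _ _ h₂ _ (IsIso.mono_of_iso _)))⟩

variable [IsIntegral X] [IsLocallyNoetherian X]
  (k : Type u) [Field k] [X.Over (Spec (CommRingCat.of k))] [IsProper (X ↘ Spec (CommRingCat.of k))]
  [Smooth (X ↘ Spec (CommRingCat.of k))] [GeometricallyIntegral (X ↘ Spec (CommRingCat.of k))]
  (hdim : topologicalKrullDim X = 1)
include k hdim

/-- Degrees of coherent submodules of a bundle. -/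
theorem gdeg_sub_le {r : ℕ} {M : X.Modules} (hM : FlatMod.IsFinLocFreeOfRank r M) {I : X.Modules} (ι : I ⟶ M)
    [Mono ι] (hI : Coh.IsCoh I) :
    gdeg k I ≤ ((Module.finrank k (Coh.HH X M 0) : ℤ) + Curv2.genus k X) * grk I := by
  rcases Nat.eq_zero_or_pos (grk I) with h0 | hpos
  · rw [(zero_rank_sub k hdim (isIntegrallyClosed' k hdim) hM ι hI h0).2, h0]
    simp
  · have h1 := VB5.gdeg_le_h0_add k hdim hI
    have h2 : (Module.finrank k (Coh.HH X I 0) : ℤ) ≤ Module.finrank k (Coh.HH X M 0) :=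
      Int.ofNat_le.2 (VB5.h0_le_of_mono k ι (SplitP1.isCoh_of_rank hM))
    have h3 : (1 : ℤ) ≤ (grk I : ℤ) := by exact_mod_cast hpos
    have h4 : (0 : ℤ) ≤ (Module.finrank k (Coh.HH X M 0) : ℤ) := Int.natCast_nonneg _
    nlinarith

/-- Degrees of modules mapping jointly injectively to a bundle. -/
theorem gdeg_le_of_jointly {r : ℕ} {M : X.Modules} (hM : FlatMod.IsFinLocFreeOfRank r M) : ∀ (n : ℕ) {G : X.Modules}
    (φ : Fin n → (G ⟶ M)), Coh.IsCoh G → JointlyMono φ →
      gdeg k G ≤ ((Module.finrank k (Coh.HH X M 0) : ℤ) + Curv2.genus k X) * grk G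
  | 0, G, φ, hG, h => by
    have hz : IsZero G := (IsZero.iff_id_eq_zero G).2 (h (𝟙 G) fun i => i.elim0)
    rw [gdeg_of_isZero k hG hz, grk_of_isZero hz]
    simp
  | n + 1, G, φ, hG, h => by
    haveI := EulerLib.isNoetherian_of_proper k (X := X)
    have hMc := SplitP1.isCoh_of_rank hM
    have hI : Coh.IsCoh (Abelian.image (φ 0)) :=
      Coherent.isCoh_kernel (cokernel.π (φ 0)) hMc (Coherent.isCoh_cokernel (φ 0) hG.1 hMc).1
    let p := Abelian.factorThruImage (φ 0)
    have hK := Coherent.isCoh_kernel p hG hI.1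
    have h1 := gdeg_sub_le k hdim hM (Abelian.image.ι (φ 0)) hI
    have h2 := gdeg_le_of_jointly hM n (fun i => kernel.ι p ≫ φ i.succ) hK (by
      intro Z x hx
      refine zero_of_comp_mono (kernel.ι p) (h _ fun i => ?_)
      induction i using Fin.cases with
      | zero =>
        have h0 : kernel.ι p ≫ φ 0 = 0 := by
          refine (congrArg (fun f => kernel.ι p ≫ f) (Abelian.image.fac (φ 0)).symm).trans ?_
          exact (kernel.condition_assoc p _).trans zero_comp
        rw [Category.assoc, h0, comp_zero]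
      | succ i => rw [Category.assoc]; exact hx i)
    have r2 := grk_additive (EulerLib.shortExact_kernel p) hG
    have d2 := gdeg_additive k (EulerLib.shortExact_kernel p) hK hG hI
    change grk G = grk (kernel p) + grk (Abelian.image (φ 0)) at r2
    change gdeg k G = gdeg k (kernel p) + gdeg k (Abelian.image (φ 0)) at d2
    rw [d2, r2]
    push_cast
    linarith

/-- Rank and degree of tensor powers. -/
theorem rank_deg_tensorPow {r : ℕ} {F : X.Modules} (hF : FlatMod.IsFinLocFreeOfRank r F) : ∀ m : ℕ,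
    FlatMod.IsFinLocFreeOfRank (r ^ m) (CohB1.tensorPow F m) ∧
      gdeg k (CohB1.tensorPow F m) * (r : ℤ) = (m : ℤ) * (r : ℤ) ^ m * gdeg k F
  | 0 => by
    refine ⟨?_, ?_⟩
    · rw [pow_zero]; exact PicLib.isFinLocFreeOfRank_one AmpleLib.isInvertible_structureModule
    · rw [show CohB1.tensorPow F 0 = Coh.structureModule X from rfl, VB5.gdeg_structure k hdim]; simp
  | m + 1 => by
    obtain ⟨h1, h2⟩ := rank_deg_tensorPow hF m
    have h3 : FlatMod.IsFinLocFreeOfRank (r ^ m * r) (CohB1.tensorPow F (m + 1)) :=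
      CycLib28.PB.Ops.isFinLocFreeOfRank_tensor h1 hF
    refine ⟨by rw [pow_succ]; exact h3, ?_⟩
    have h4 := VarietyLib.deg_tensor_rank k hdim.le h1 hF
    change Curv2.deg k X (CohB1.tensorPow F (m + 1)) (r ^ m * r) = _ at h4
    rw [deg_eq_gdeg k h3, deg_eq_gdeg k hF, deg_eq_gdeg k h1] at h4
    rw [h4]
    push_cast
    rw [pow_succ]
    linear_combination (r : ℤ) * h2

theorem gdeg_sub_nonpos {E : X.Modules} (hE : FlatMod.IsFinLocFree E) (h : Bdd E) {r' : ℕ} (hr' : 0 < r')
    {F : X.Modules} (hF : FlatMod.IsFinLocFreeOfRank r' F) (i : F ⟶ E) [Mono i] : gdeg k F ≤ 0 := by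
  obtain ⟨M, hM, d⟩ := h
  obtain ⟨s, hs⟩ := VB5.exists_rank hM
  set C : ℤ := (Module.finrank k (Coh.HH X M 0) : ℤ) + Curv2.genus k X with hC
  have key : ∀ m : ℕ, (m : ℤ) * gdeg k F ≤ C * r' := fun m => by
    obtain ⟨j, hj⟩ := exists_mono_tensorPow (VB5.exists_rank_free hF) hE i m
    obtain ⟨n, a, b, hab⟩ := d m
    obtain ⟨hr, hd⟩ := rank_deg_tensorPow k hdim hF m
    have hle := gdeg_le_of_jointly k hdim hs n (fun l => j ≫ a l) (SplitP1.isCoh_of_rank hr) (by
      intro Z x hx
      haveI := hj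
      refine zero_of_comp_mono j ?_
      calc x ≫ j = (x ≫ j) ≫ ∑ l, a l ≫ b l := by rw [hab, Category.comp_id]
        _ = ∑ l, (x ≫ j ≫ a l) ≫ b l := by simp [Preadditive.comp_sum]
        _ = 0 := Finset.sum_eq_zero fun l _ => by rw [hx l, zero_comp])
    rw [grk_eq hr, ← hC] at hle
    push_cast at hle
    refine le_of_mul_le_mul_left (a := (r' : ℤ) ^ m) ?_ (by positivity)
    calc (r' : ℤ) ^ m * ((m : ℤ) * gdeg k F) = gdeg k (CohB1.tensorPow F m) * r' := by rw [hd]; ring
      _ ≤ C * (r' : ℤ) ^ m * r' := mul_le_mul_of_nonneg_right hle (Int.natCast_nonneg _)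
      _ = _ := by ring
  by_contra hpos
  push Not at hpos
  have := key ((C * r').toNat + 1)
  have h2 : C * (r' : ℤ) ≤ ((C * r').toNat : ℤ) := Int.self_le_toNat _
  push_cast at this
  nlinarith

theorem deg_zero_ss_of_wf [IsAlgClosed k] {r : ℕ} (hr : 0 < r) {E : X.Modules}
    (hE : FlatMod.IsFinLocFreeOfRank r E) (h : Bdd E) : gdeg k E = 0 := by
  have hf := VB5.exists_rank_free hE
  have h1 := gdeg_sub_nonpos k hdim hf h hr hE (𝟙 E)
  have hd := CycLib28.PB.Ops.isFinLocFreeOfRank_dual hE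
  have h2 := gdeg_sub_nonpos k hdim (VB5.exists_rank_free hd) (h.dual hf) hr hd (𝟙 _)
  rw [VB5.gdeg_dual k hdim (isIntegrallyClosed' k hdim) r hE] at h2
  omega

end Groth.Agent.WeilFin
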