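import Groth.Agent.WeilFin.EtaleTriv
import Groth.Agent.RelVALib.AffBaseChange
import Groth.Agent.NonAb.SchTorsor
import Groth.Agent.NeronLib.TorsorProp
import Groth.Agent.TorsorInj.FiniteIsom
import Groth.Agent.CurveRR24.Sky
import Groth.Agent.Props12.FinLocFree

/-!
# The direct image of the structure sheaf of a torsor under a finite group scheme
-/

set_option autoImplicit false
set_option linter.style.haveILetI false
set_option linter.unusedSectionVars false
set_option backward.isDefEq.respectTransparency.types false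

universe u

open CategoryTheory CategoryTheory.Limits AlgebraicGeometry Opposite TopologicalSpace MonoidalCategory
  CartesianMonoidalCategory
open Groth.Agent.Coherent Groth.Agent.PicLib Groth.Agent.AmpleLib

namespace Groth.Agent.WeilFin

/-- Direct image of `O` along a finite morphism to a point. -/
theorem nonempty_push_structure_free (k : Type u) [Field k] (G : Scheme.{u}) [G.Over (Spec (CommRingCat.of k))]
    [IsFinite (G ↘ Spec (CommRingCat.of k))] {n : ℕ}
    (hn : Module.finrank k (Coh.HH G (Coh.structureModule G) 0) = n) :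
    Nonempty ((Scheme.Modules.pushforward (G ↘ Spec (CommRingCat.of k))).obj (Coh.structureModule G) ≅
      FlatMod.freeMod (Spec (CommRingCat.of k)) n) := by
  let π := G ↘ Spec (CommRingCat.of k)
  let M := (Scheme.Modules.pushforward π).obj (Coh.structureModule G)
  haveI : Coh.IsQCoh (Coh.structureModule G) := isQCoh_structureModule (X := G)
  haveI : Coh.IsQCoh M := Coherent.isQCoh_push π _
  haveI : IsAffine G := isAffine_of_isAffineHom π
  haveI : Module.Finite Γ(Spec (CommRingCat.of k), ⊤) Γ(M, ⊤) := by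
    letI := (π.app ⊤).hom.toAlgebra
    exact (IsFinite.finite_app π ⊤ (isAffineOpen_top _) :
      Module.Finite Γ(Spec (CommRingCat.of k), ⊤) Γ(G, π ⁻¹ᵁ ⊤))
  let ψ : k ≃+* Γ(Spec (CommRingCat.of k), ⊤) :=
    (Scheme.ΓSpecIso (CommRingCat.of k)).symm.commRingCatIsoToRingEquiv
  letI : Module k Γ(M, ⊤) := Module.compHom _ ψ.toRingHom
  haveI : Module.Finite k Γ(M, ⊤) :=
    Module.Finite.of_surjective (M := Γ(M, ⊤))
      ({ toFun := id, map_add' := fun _ _ => rfl, map_smul' := fun c x => by
          show c • x = ψ (ψ.symm c) • x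
          rw [RingEquiv.apply_symm_apply] } :
        Γ(M, ⊤) →ₛₗ[(ψ.symm : Γ(Spec (CommRingCat.of k), ⊤) ≃+* k).toRingHom] Γ(M, ⊤)) Function.surjective_id
  let l : GA (baseHom k G) (Coh.structureModule G) ≃ₗ[k] Γ(M, ⊤) :=
    { toFun := fun x => x
      invFun := fun x => x
      left_inv := fun _ => rfl
      right_inv := fun _ => rfl
      map_add' := fun _ _ => rfl
      map_smul' := fun _ _ => rfl }
  have hr : Module.finrank k Γ(M, ⊤) = n := by
    rw [← l.finrank_eq, ← (CurveRR24.hhZero k (Coh.structureModule G)).finrank_eq, hn]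
  let b := (Module.finBasisOfFinrankEq k Γ(M, ⊤) hr).mapCoeffs ψ (fun _ _ => rfl)
  exact Props12.exists_iso_freeMod_of_basis M b

/-- `f_* O ⊗ f_* O` for a torsor under a finite group over a field. -/
theorem nonempty_tensor_push (k : Type u) [Field k] {X : Scheme.{u}} [X.Over (Spec (CommRingCat.of k))]
    [IsIntegral X]
    (G : Scheme.{u}) [G.Over (Spec (CommRingCat.of k))] [GrpObj (G.asOver (Spec (CommRingCat.of k)))]
    [IsFinite (G ↘ Spec (CommRingCat.of k))] {n : ℕ}
    (hn : Module.finrank k (Coh.HH G (Coh.structureModule G) 0) = n)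
    (P : Over X) (a : AlgGrp.Action (Red.bc (X ↘ Spec (CommRingCat.of k)) (G.asOver (Spec (CommRingCat.of k)))) P)
    (hp : NonAbH1.IsPseudoTorsorSch a) (hPf : IsFinite P.hom) :
    Nonempty (CohB1.tensorMod (DQCoh.pushStr P.hom) (DQCoh.pushStr P.hom) ≅
      ∐ fun _ : Fin n => DQCoh.pushStr P.hom) := by
  let Gk := G.asOver (Spec (CommRingCat.of k))
  let sX := X ↘ Spec (CommRingCat.of k)
  let GX := Red.bc sX Gk
  let f := P.hom
  haveI := NonAbLib.isIso_trivMap hp (𝟙 P)
  let φ : pullback GX.hom f ≅ pullback P.hom f := (Over.forget X).mapIso (asIso (NonAbLib.trivMap a (𝟙 P)))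
  let q : pullback GX.hom f ⟶ P.left := pullback.snd GX.hom f
  have hφ : φ.hom ≫ pullback.snd P.hom f = q := NonAbLib.trivMap_snd a (𝟙 P)
  have sqA : IsPullback (φ.hom ≫ pullback.fst P.hom f) q P.hom f :=
    (IsPullback.of_hasPullback P.hom f).of_iso φ.symm (Iso.refl _) (Iso.refl _) (Iso.refl _)
      (by simp) (by simp [← hφ]) (by simp) (by simp)
  have sqB : IsPullback (pullback.fst GX.hom f ≫ pullback.fst Gk.hom sX) q (G ↘ Spec (CommRingCat.of k))
      (f ≫ sX) :=
    (IsPullback.of_hasPullback GX.hom f).paste_horiz (IsPullback.of_hasPullback Gk.hom sX)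
  let O := Coh.structureModule P.left
  haveI : Coh.IsQCoh O := isQCoh_structureModule (X := P.left)
  haveI : Coh.IsQCoh (Coh.structureModule G) := isQCoh_structureModule (X := G)
  haveI : Coh.IsQCoh (DQCoh.pushStr f) := Coherent.isQCoh_push f _
  haveI := RelVALib.isIso_bcHom sqA O
  haveI hGaff : IsAffineHom (G ↘ Spec (CommRingCat.of k)) := by
    have hf' : IsFinite (G ↘ Spec (CommRingCat.of k)) := ‹_›
    exact hf'.toIsAffineHom
  haveI := @RelVALib.isIso_bcHom _ _ _ _ _ _ _ _ sqB hGaff (Coh.structureModule G) ‹_›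
  haveI := DQCoh.isIso_unitBilin f (DQCoh.pushStr f)
  obtain ⟨e₁⟩ := AmpleLib.exists_pullStructureIso (φ.hom ≫ pullback.fst P.hom f)
  obtain ⟨e₂⟩ := AmpleLib.exists_pullStructureIso (pullback.fst GX.hom f ≫ pullback.fst Gk.hom sX)
  obtain ⟨u⟩ := nonempty_push_structure_free k G hn
  obtain ⟨v⟩ := DCat.PerfTensor.nonempty_pullback_free (f ≫ sX) n
  let e : (Scheme.Modules.pullback f).obj (DQCoh.pushStr f) ≅ FlatMod.freeMod P.left n :=
    asIso (RelVALib.bcHom sqA O) ≪≫ (Scheme.Modules.pushforward q).mapIso (e₁ ≪≫ e₂.symm) ≪≫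
      (asIso (RelVALib.bcHom sqB (Coh.structureModule G))).symm ≪≫
      (Scheme.Modules.pullback (f ≫ sX)).mapIso u ≪≫ v
  haveI : PreservesFiniteCoproducts (Scheme.Modules.pushforward f) :=
    ⟨fun k => preservesCoproductsOfShape_of_preservesBiproductsOfShape _⟩
  exact ⟨asIso (DQCoh.unitBilin f (DQCoh.pushStr f)).desc ≪≫ (Scheme.Modules.pushforward f).mapIso e ≪≫
    PreservesCoproduct.iso (Scheme.Modules.pushforward f) _⟩

end Groth.Agent.WeilFin
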