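import Groth.Agent.WeilFin.Ops
import Groth.Agent.FinCovLib29.Split
import Groth.Agent.DQCoh.ResDescent
import Groth.Agent.Coherent.Existence.FiniteAlgebraize

/-!
# Bundles trivialised by a finite locally free cover of degree prime to the characteristic
-/

set_option autoImplicit false
set_option linter.style.haveILetI false
set_option linter.unusedSectionVars false
set_option backward.isDefEq.respectTransparency.types false

universe u

open CategoryTheory CategoryTheory.Limits AlgebraicGeometry Opposite TopologicalSpace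
open Groth.Agent.Coherent Groth.Agent.PicLib Groth.Agent.AmpleLib Groth.Agent.EulerLib

namespace Groth.Agent.WeilFin

variable {X Y : Scheme.{u}}

theorem nonempty_pullback_tensorPow (f : Y ⟶ X) (E : X.Modules) : ∀ m : ℕ,
    Nonempty ((Scheme.Modules.pullback f).obj (CohB1.tensorPow E m) ≅
      CohB1.tensorPow ((Scheme.Modules.pullback f).obj E) m)
  | 0 => AmpleLib.exists_pullStructureIso f
  | m + 1 => by
    obtain ⟨e⟩ := nonempty_pullback_tensorPow f E m
    exact ⟨DCat.PullTensor.pullTensorIso f _ _ ≪≫ AmpleLib.tensorIso e (Iso.refl _)⟩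

theorem dom_freeMod (r : ℕ) : Dom (Coh.structureModule Y) (FlatMod.freeMod Y r) :=
  Dom.sigma _ fun _ => Dom.refl _

theorem dom_tensorPow_free {E : Y.Modules} (h : Dom (Coh.structureModule Y) E) :
    ∀ m, Dom (Coh.structureModule Y) (CohB1.tensorPow E m)
  | 0 => Dom.refl _
  | m + 1 => Dom.trans ((Dom.refl (Coh.structureModule Y)).of_iso (unitTensorIso _))
      ((dom_tensorPow_free h m).tensor h)

/-- `f_* O_Y` is the module of the algebra `f_* O_Y`. -/
theorem nonempty_pushStr_iso (f : Y ⟶ X) [QuasiCompact f] [QuasiSeparated f] :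
    Nonempty (DQCoh.pushStr f ≅ (RelSpec.QCAlg.directImage f).toModule) := by
  let back : (RelSpec.QCAlg.directImage f).toModule ⟶ DQCoh.pushStr f :=
    ⟨letI := (RelSpec.QCAlg.directImage f).moduleSect
     PresheafOfModules.homMk
      { app := fun U => AddCommGrpCat.ofHom (AddMonoidHom.id Γ(Y, f ⁻¹ᵁ U.unop))
        naturality := fun _ _ _ => rfl }
      fun _ _ _ => rfl⟩
  exact ⟨⟨Coherent.Existence.strToAlg f, back, Scheme.Modules.hom_ext _ _ fun _ => rfl,
    Scheme.Modules.hom_ext _ _ fun _ => rfl⟩⟩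

/-- The structure sheaf is a summand of `f_* O_Y` when the degree is invertible. -/
theorem exists_retract_pushStr [IsIntegral X] [IsLocallyNoetherian X] (k : Type u) [Field k] [CharZero k]
    [X.Over (Spec (CommRingCat.of k))] (f : Y ⟶ X) (hf : Mor2.IsFinLocFree f) [Surjective f] :
    Nonempty (Retract (Coh.structureModule X) (DQCoh.pushStr f)) := by
  haveI := hf.1
  obtain ⟨e⟩ := nonempty_pushStr_iso f
  let A := RelSpec.QCAlg.directImage f
  have hA : FlatMod.IsFinLocFree A.toModule := DCat.PerfTensor.isFinLocFree_of_iso e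
    (DQCoh.isFinLocFree_push f hf (CohBC.isFinLocFree_structureModule Y))
  obtain ⟨d, hd⟩ := VB5.exists_rank hA
  have hd0 : d ≠ 0 := by
    intro h0
    have hz : IsZero A.toModule := Clifford24.isZero_of_rank_zero (h0 ▸ hd)
    have hz' : IsZero (DQCoh.pushStr f) := hz.of_iso e
    have h1 : (show Γ(DQCoh.pushStr f, ⊤) from (1 : Γ(Y, ⊤))) = 0 :=
      congr(($((IsZero.iff_id_eq_zero _).1 hz')).app ⊤ (show Γ(DQCoh.pushStr f, ⊤) from (1 : Γ(Y, ⊤))))
    haveI : Subsingleton Γ(Y, ⊤) := subsingleton_of_zero_eq_one (show (0 : Γ(Y, ⊤)) = 1 from h1.symm)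
    obtain ⟨y, -⟩ := (inferInstance : Surjective f).surj (genericPoint X)
    exact zero_ne_one (α := Y.presheaf.stalk y) (by
      rw [← map_one (Y.presheaf.germ ⊤ y trivial).hom, Subsingleton.elim (1 : Γ(Y, ⊤)) 0, map_zero])
  have hu : IsUnit (d : Γ(X, ⊤)) := by
    have h := (isUnit_iff_ne_zero.2 (Nat.cast_ne_zero.2 hd0 : (d : k) ≠ 0)).map
      (Coh.toGlobal (X ↘ Spec (CommRingCat.of k)))
    rw [map_natCast] at h
    exact h
  have hτ := FinCovLib29.isTrace_tau A hA
  haveI := FinCovLib29.isSplitEpi_trace hd hτ hu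
  exact ⟨(Retract.mk (section_ (FinCovLib29.tau A hA)) (FinCovLib29.tau A hA) (IsSplitEpi.id _) :
    Retract (Coh.structureModule X) A.toModule).trans (Retract.ofIso e.symm)⟩

theorem bdd_of_trivialised [IsIntegral X] [IsLocallyNoetherian X] (k : Type u) [Field k] [CharZero k]
    [X.Over (Spec (CommRingCat.of k))] (f : Y ⟶ X) (hf : Mor2.IsFinLocFree f) [Surjective f]
    {E : X.Modules} (hE : FlatMod.IsFinLocFree E) {r : ℕ}
    (e : (Scheme.Modules.pullback f).obj E ≅ FlatMod.freeMod Y r) : Bdd E := by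
  haveI := hf.1
  obtain ⟨ρ⟩ := exists_retract_pushStr k f hf
  refine ⟨DQCoh.pushStr f, DQCoh.isFinLocFree_push f hf (CohBC.isFinLocFree_structureModule Y), fun m => ?_⟩
  let N := CohB1.tensorPow E m
  haveI : Coh.IsQCoh N := DCat.PullPerf.isQCoh_of_finLocFree (isFinLocFree_tensorPow hE m)
  haveI := DQCoh.isIso_unitBilin f N
  obtain ⟨u⟩ := nonempty_pullback_tensorPow f E m
  have h1 : Dom (Coh.structureModule Y) ((Scheme.Modules.pullback f).obj N) :=
    (dom_tensorPow_free ((dom_freeMod r).of_iso e) m).of_iso u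
  haveI : (Scheme.Modules.pushforward f).Additive := inferInstance
  have h2 : Dom (DQCoh.pushStr f) (CohB1.tensorMod (DQCoh.pushStr f) N) :=
    (Dom.map (Scheme.Modules.pushforward f) h1).of_iso (asIso (DQCoh.unitBilin f N).desc)
  exact (h2.of_retract (ρ.map (SerreDual.twistF N))).of_iso (unitTensorIso N).symm

end Groth.Agent.WeilFin
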