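import Mathlib.CategoryTheory.Linear.Basic
import Mathlib.CategoryTheory.Preadditive.Biproducts
import Mathlib.CategoryTheory.Preadditive.AdditiveFunctor
import Mathlib.CategoryTheory.Preadditive.Opposite
import Mathlib.CategoryTheory.Retract
import Mathlib.LinearAlgebra.FiniteDimensional.Basic

/-!
# Multiplicities of an object with local endomorphism ring
-/

set_option autoImplicit false

open CategoryTheory CategoryTheory.Limits

namespace Groth.Agent.WeilFin

variable {C : Type*} [Category C] [Preadditive C]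

/-- Nonzero, with local endomorphism ring. -/
def Indec (T : C) : Prop :=
  ¬ IsZero T ∧ ∀ f₁ f₂ : T ⟶ T, IsIso (f₁ + f₂) → IsIso f₁ ∨ IsIso f₂

theorem Indec.not_isIso_zero {T : C} (h : Indec T) : ¬ IsIso (0 : T ⟶ T) := fun hi =>
  h.1 ((IsZero.iff_id_eq_zero T).2 (by rw [← IsIso.hom_inv_id (0 : T ⟶ T), zero_comp]))

theorem Indec.exists_isIso_of_sum {T : C} (h : Indec T) {ι : Type*} (s : Finset ι) (f : ι → (T ⟶ T))
    (hs : IsIso (∑ i ∈ s, f i)) : ∃ i ∈ s, IsIso (f i) := by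
  classical
  induction s using Finset.induction_on with
  | empty => exact absurd (by simpa using hs) h.not_isIso_zero
  | insert a s ha ih =>
    rw [Finset.sum_insert ha] at hs
    rcases h.2 _ _ hs with h1 | h1
    · exact ⟨a, Finset.mem_insert_self a s, h1⟩
    · obtain ⟨i, hi, h2⟩ := ih h1
      exact ⟨i, Finset.mem_insert_of_mem hi, h2⟩

theorem Indec.retract_of_isIso {T Y : C} {f : T ⟶ Y} {g : Y ⟶ T} (h : IsIso (f ≫ g)) : Nonempty (Retract T Y) :=
  ⟨⟨f, g ≫ inv (f ≫ g), by rw [← Category.assoc, IsIso.hom_inv_id]⟩⟩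

/-- `M` dominates `Y`: `Y` is a retract of a finite sum of copies of `M`. -/
def Dom (M Y : C) : Prop :=
  ∃ (n : ℕ) (a : Fin n → (Y ⟶ M)) (b : Fin n → (M ⟶ Y)), ∑ i, a i ≫ b i = 𝟙 Y

theorem Dom.of_fintype {M Y : C} {ι : Type*} [Fintype ι] (a : ι → (Y ⟶ M)) (b : ι → (M ⟶ Y))
    (h : ∑ i, a i ≫ b i = 𝟙 Y) : Dom M Y := by
  refine ⟨Fintype.card ι, fun i => a ((Fintype.equivFin ι).symm i), fun i => b ((Fintype.equivFin ι).symm i), ?_⟩
  rw [← h]
  exact Equiv.sum_comp (Fintype.equivFin ι).symm (fun i => a i ≫ b i)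

theorem Dom.refl (M : C) : Dom M M :=
  Dom.of_fintype (ι := Unit) (fun _ => 𝟙 M) (fun _ => 𝟙 M) (by simp)

theorem Dom.of_retract {M Y Z : C} (h : Dom M Z) (r : Retract Y Z) : Dom M Y := by
  obtain ⟨n, a, b, hab⟩ := h
  refine ⟨n, fun i => r.i ≫ a i, fun i => b i ≫ r.r, ?_⟩
  calc ∑ i, (r.i ≫ a i) ≫ (b i ≫ r.r) = r.i ≫ (∑ i, a i ≫ b i) ≫ r.r := by
        simp [Preadditive.comp_sum, Preadditive.sum_comp]
    _ = 𝟙 Y := by rw [hab]; simp

theorem Dom.of_iso {M Y Z : C} (h : Dom M Z) (e : Y ≅ Z) : Dom M Y :=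
  h.of_retract ⟨e.hom, e.inv, e.hom_inv_id⟩

/-- An object which is a sum of dominated objects is dominated. -/
theorem Dom.of_total {M Z : C} {J : Type*} [Fintype J] {Y : J → C} (hY : ∀ j, Dom M (Y j))
    (p : ∀ j, Z ⟶ Y j) (q : ∀ j, Y j ⟶ Z) (hpq : ∑ j, p j ≫ q j = 𝟙 Z) : Dom M Z := by
  classical
  choose n a b hab using hY
  refine Dom.of_fintype (ι := Σ j, Fin (n j)) (fun x => p x.1 ≫ a x.1 x.2) (fun x => b x.1 x.2 ≫ q x.1) ?_
  rw [Fintype.sum_sigma, ← hpq]
  refine Finset.sum_congr rfl fun j _ => ?_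
  calc ∑ i, (p j ≫ a j i) ≫ (b j i ≫ q j) = p j ≫ (∑ i, a j i ≫ b j i) ≫ q j := by
        simp [Preadditive.comp_sum, Preadditive.sum_comp]
    _ = p j ≫ q j := by rw [hab]; simp

theorem Dom.trans {M Y Z : C} (h₁ : Dom M Y) (h₂ : Dom Y Z) : Dom M Z := by
  obtain ⟨n, a, b, hab⟩ := h₂
  exact Dom.of_total (Y := fun _ : Fin n => Y) (fun _ => h₁) a b hab

theorem Dom.map {D : Type*} [Category D] [Preadditive D] (F : C ⥤ D) [F.Additive] {M Y : C} (h : Dom M Y) :
    Dom (F.obj M) (F.obj Y) := by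
  obtain ⟨n, a, b, hab⟩ := h
  refine ⟨n, fun i => F.map (a i), fun i => F.map (b i), ?_⟩
  rw [← F.map_id, ← hab, F.map_sum]
  exact Finset.sum_congr rfl fun i _ => (F.map_comp _ _).symm

theorem Dom.map_op {D : Type*} [Category D] [Preadditive D] (F : Cᵒᵖ ⥤ D) [F.Additive] {M Y : C} (h : Dom M Y) :
    Dom (F.obj (Opposite.op M)) (F.obj (Opposite.op Y)) := by
  obtain ⟨n, a, b, hab⟩ := h
  refine Dom.map F ⟨n, fun i => (b i).op, fun i => (a i).op, ?_⟩
  rw [← op_id, ← hab, op_sum]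
  rfl

theorem Dom.of_biprod [HasBinaryBiproducts C] {M A B : C} (hA : Dom M A) (hB : Dom M B) : Dom M (A ⊞ B) := by
  obtain ⟨n, a, b, hab⟩ := hA
  obtain ⟨n', a', b', hab'⟩ := hB
  refine Dom.of_fintype (ι := Fin n ⊕ Fin n') (Sum.elim (fun i => biprod.fst ≫ a i) fun i => biprod.snd ≫ a' i)
    (Sum.elim (fun i => b i ≫ biprod.inl) fun i => b' i ≫ biprod.inr) ?_
  rw [Fintype.sum_sum_type, ← biprod.total]
  refine congrArg₂ (· + ·) ?_ ?_
  · calc ∑ i, (biprod.fst ≫ a i) ≫ (b i ≫ biprod.inl)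
          = biprod.fst ≫ (∑ i, a i ≫ b i) ≫ (biprod.inl : A ⟶ A ⊞ B) := by
          simp [Preadditive.comp_sum, Preadditive.sum_comp]
      _ = _ := by rw [hab]; simp
  · calc ∑ i, (biprod.snd ≫ a' i) ≫ (b' i ≫ biprod.inr)
          = biprod.snd ≫ (∑ i, a' i ≫ b' i) ≫ (biprod.inr : B ⟶ A ⊞ B) := by
          simp [Preadditive.comp_sum, Preadditive.sum_comp]
      _ = _ := by rw [hab']; simp

variable (k : Type*) [Field k] [Linear k C]

/-- The maps out of `T` which are no part of a split injection. -/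
def radHom {T : C} (hT : Indec T) (Y : C) : Submodule k (T ⟶ Y) where
  carrier := {f | ∀ g : Y ⟶ T, ¬ IsIso (f ≫ g)}
  zero_mem' g := by simpa using hT.not_isIso_zero
  add_mem' {f f'} hf hf' g hi := by
    rw [Preadditive.add_comp] at hi
    rcases hT.2 _ _ hi with h | h
    · exact hf g h
    · exact hf' g h
  smul_mem' c f hf g hi := by
    rw [Linear.smul_comp, ← Linear.comp_smul] at hi
    exact hf _ hi

theorem mem_radHom {T Y : C} (hT : Indec T) {f : T ⟶ Y} :
    f ∈ radHom k hT Y ↔ ∀ g : Y ⟶ T, ¬ IsIso (f ≫ g) := Iff.rfl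

/-- The multiplicity of `T` in `Y`. -/
noncomputable def mult {T : C} (hT : Indec T) (Y : C) : ℕ :=
  Module.finrank k ((T ⟶ Y) ⧸ radHom k hT Y)

theorem mult_congr {T Y Y' : C} (hT : Indec T) (e : Y ≅ Y') : mult k hT Y = mult k hT Y' := by
  refine LinearEquiv.finrank_eq (Submodule.Quotient.equiv _ _ (Linear.homCongr k (Iso.refl T) e) ?_)
  ext f
  simp only [Submodule.mem_map, mem_radHom]
  constructor
  · rintro ⟨f', hf', rfl⟩ g
    simpa [Linear.homCongr_apply] using hf' (e.hom ≫ g)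
  · intro hf
    refine ⟨f ≫ e.inv, fun g => ?_, by simp [Linear.homCongr_apply]⟩
    simpa using hf (e.inv ≫ g)

theorem mult_congr_left {T T' Y : C} (hT : Indec T) (hT' : Indec T') (e : T ≅ T') :
    mult k hT Y = mult k hT' Y := by
  refine LinearEquiv.finrank_eq (Submodule.Quotient.equiv _ _ (Linear.homCongr k e (Iso.refl Y)) ?_)
  ext f
  simp only [Submodule.mem_map, mem_radHom]
  constructor
  · rintro ⟨f', hf', rfl⟩ g hg
    refine hf' (g ≫ e.inv) ?_
    have h2 : IsIso (e.hom ≫ ((Linear.homCongr k e (Iso.refl Y) f') ≫ g) ≫ e.inv) := by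
      haveI := hg; infer_instance
    simpa [Linear.homCongr_apply] using h2
  · intro hf
    refine ⟨e.hom ≫ f, fun g hg => ?_, by simp [Linear.homCongr_apply]⟩
    refine hf (g ≫ e.hom) ?_
    have h2 : IsIso (e.inv ≫ ((e.hom ≫ f) ≫ g) ≫ e.hom) := by haveI := hg; infer_instance
    simpa using h2

theorem retract_of_mult_ne_zero {T Y : C} (hT : Indec T) (h : mult k hT Y ≠ 0) : Nonempty (Retract T Y) := by
  by_contra hc
  refine h ?_
  have htop : radHom k hT Y = ⊤ := eq_top_iff.2 fun f _ g hg => hc (Indec.retract_of_isIso hg)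
  rw [mult, htop]
  exact Module.finrank_zero_of_subsingleton

theorem mult_ne_zero {T Y : C} (hT : Indec T) [Module.Finite k (T ⟶ Y)] (r : Retract T Y) :
    mult k hT Y ≠ 0 := by
  intro h0
  haveI : Subsingleton ((T ⟶ Y) ⧸ radHom k hT Y) := Module.finrank_zero_iff.1 h0
  have hr : r.i ∈ radHom k hT Y := (Submodule.Quotient.mk_eq_zero _).1 (Subsingleton.elim _ _)
  exact hr r.r (by rw [r.retract]; infer_instance)

/-- Multiplicities add over finite direct sums. -/
theorem mult_eq_sum {T Z : C} (hT : Indec T) {J : Type*} [Fintype J] {Y : J → C}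
    [∀ j, Module.Finite k (T ⟶ Y j)] (p : ∀ j, Z ⟶ Y j) (q : ∀ j, Y j ⟶ Z)
    (hself : ∀ j, q j ≫ p j = 𝟙 _) (hne : ∀ i j, i ≠ j → q i ≫ p j = 0)
    (htot : ∑ j, p j ≫ q j = 𝟙 Z) : mult k hT Z = ∑ j, mult k hT (Y j) := by
  classical
  let L : (T ⟶ Z) →ₗ[k] ((j : J) → (T ⟶ Y j) ⧸ radHom k hT (Y j)) :=
    LinearMap.pi fun j => (radHom k hT (Y j)).mkQ ∘ₗ Linear.rightComp k T (p j)
  have hL : ∀ f j, L f j = Submodule.Quotient.mk (f ≫ p j) := fun f j => rfl
  have hker : LinearMap.ker L = radHom k hT Z := by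
    ext f
    rw [LinearMap.mem_ker, funext_iff]
    simp only [hL, Pi.zero_apply, Submodule.Quotient.mk_eq_zero, mem_radHom]
    constructor
    · intro h g hg
      have he : f ≫ g = ∑ j, (f ≫ p j) ≫ (q j ≫ g) := by
        calc f ≫ g = f ≫ (∑ j, p j ≫ q j) ≫ g := by rw [htot, Category.id_comp]
          _ = _ := by simp [Preadditive.comp_sum, Preadditive.sum_comp]
      rw [he] at hg
      obtain ⟨j, -, hj⟩ := hT.exists_isIso_of_sum _ _ hg
      exact h j _ hj
    · intro h j g hg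
      exact h (p j ≫ g) (by rwa [← Category.assoc])
  have hsurj : Function.Surjective L := by
    intro v
    choose g hg using fun j => Submodule.Quotient.mk_surjective _ (v j)
    refine ⟨∑ i, g i ≫ q i, funext fun j => ?_⟩
    rw [hL, ← hg j, Preadditive.sum_comp, Finset.sum_eq_single j
      (fun i _ hi => by rw [Category.assoc, hne i j hi, comp_zero]) (fun h => absurd (Finset.mem_univ j) h),
      Category.assoc, hself, Category.comp_id]
  rw [mult, ((Submodule.quotEquivOfEq _ _ hker.symm).trans (L.quotKerEquivOfSurjective hsurj)).finrank_eq,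
    Module.finrank_pi_fintype]
  rfl

theorem mult_biprod [HasBinaryBiproducts C] {T A B : C} (hT : Indec T) [Module.Finite k (T ⟶ A)]
    [Module.Finite k (T ⟶ B)] : mult k hT (A ⊞ B) = mult k hT A + mult k hT B := by
  let L : (T ⟶ A ⊞ B) →ₗ[k] ((T ⟶ A) ⧸ radHom k hT A) × ((T ⟶ B) ⧸ radHom k hT B) :=
    ((radHom k hT A).mkQ ∘ₗ Linear.rightComp k T biprod.fst).prod
      ((radHom k hT B).mkQ ∘ₗ Linear.rightComp k T biprod.snd)
  have hL : ∀ f, L f = (Submodule.Quotient.mk (f ≫ biprod.fst), Submodule.Quotient.mk (f ≫ biprod.snd)) :=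
    fun f => rfl
  have hker : LinearMap.ker L = radHom k hT (A ⊞ B) := by
    ext f
    simp only [LinearMap.mem_ker, hL, Prod.mk_eq_zero, Submodule.Quotient.mk_eq_zero, mem_radHom]
    constructor
    · intro h g hg
      have he : f ≫ g = (f ≫ biprod.fst) ≫ (biprod.inl ≫ g) + (f ≫ biprod.snd) ≫ (biprod.inr ≫ g) := by
        calc f ≫ g = f ≫ (biprod.fst ≫ biprod.inl + biprod.snd ≫ biprod.inr : A ⊞ B ⟶ A ⊞ B) ≫ g := by
              rw [biprod.total, Category.id_comp]
          _ = _ := by simp only [Preadditive.comp_add, Preadditive.add_comp, Category.assoc]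
      rw [he] at hg
      rcases hT.2 _ _ hg with h1 | h1
      · exact h.1 _ h1
      · exact h.2 _ h1
    · exact fun h => ⟨fun g hg => h (biprod.fst ≫ g) (by rwa [← Category.assoc]),
        fun g hg => h (biprod.snd ≫ g) (by rwa [← Category.assoc])⟩
  have hsurj : Function.Surjective L := by
    rintro ⟨a, b⟩
    obtain ⟨f, rfl⟩ := Submodule.Quotient.mk_surjective _ a
    obtain ⟨g, rfl⟩ := Submodule.Quotient.mk_surjective _ b
    exact ⟨biprod.lift f g, by rw [hL, biprod.lift_fst, biprod.lift_snd]⟩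
  rw [mult, ((Submodule.quotEquivOfEq _ _ hker.symm).trans (L.quotKerEquivOfSurjective hsurj)).finrank_eq,
    Module.finrank_prod]
  rfl

theorem mult_of_isZero {T Z : C} (hT : Indec T) (hZ : IsZero Z) : mult k hT Z = 0 := by
  haveI : Subsingleton (T ⟶ Z) := ⟨fun a b => hZ.eq_of_tgt a b⟩
  exact Module.finrank_zero_of_subsingleton

end Groth.Agent.WeilFin
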