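import Groth.Agent.WeilFin.Bundle
import Mathlib.LinearAlgebra.Dimension.StrongRankCondition

/-!
# Weil finiteness and boundedness of tensor powers
-/

set_option autoImplicit false
set_option linter.style.haveILetI false
set_option linter.unusedSectionVars false
set_option backward.isDefEq.respectTransparency.types false

universe u

open CategoryTheory CategoryTheory.Limits AlgebraicGeometry Opposite TopologicalSpace
open Groth.Agent.Coherent Groth.Agent.PicLib Groth.Agent.AmpleLib Groth.Agent.EulerLib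

namespace Groth.Agent.WeilFin

variable {X : Scheme.{u}}

/-- `P(E)`. -/
noncomputable abbrev peval (E : X.Modules) (P : Polynomial ℕ) : X.Modules :=
  ∐ fun i : Fin (P.natDegree + 1) => ∐ fun _ : Fin (P.coeff ↑i) => CohB1.tensorPow E ↑i

/-- Finite in the sense of Weil. -/
def WF (E : X.Modules) : Prop :=
  ∃ P Q : Polynomial ℕ, P ≠ Q ∧ Nonempty (peval E P ≅ peval E Q)

/-- All tensor powers are retracts of sums of copies of a single bundle. -/
def Bdd (E : X.Modules) : Prop :=
  ∃ M : X.Modules, FlatMod.IsFinLocFree M ∧ ∀ m, Dom M (CohB1.tensorPow E m)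

theorem Dom.sigma {M : X.Modules} {J : Type} [Fintype J] (F : J → X.Modules) (h : ∀ j, Dom M (F j)) :
    Dom M (∐ F) := by
  classical
  haveI : HasFiniteBiproducts X.Modules := HasFiniteBiproducts.of_hasFiniteCoproducts
  exact (Dom.of_total h (biproduct.π F) (biproduct.ι F) biproduct.total).of_iso (biproduct.isoCoproduct F).symm

theorem Dom.of_sigma {J : Type} [Fintype J] (F : J → X.Modules) (j : J) : Dom (∐ F) (F j) := by
  classical
  exact (Dom.refl _).of_retract
    ⟨Sigma.ι F j, Sigma.desc fun i => if h : i = j then eqToHom (congrArg F h) else 0, by simp⟩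

theorem isFinLocFree_peval {E : X.Modules} (hE : FlatMod.IsFinLocFree E) (P : Polynomial ℕ) :
    FlatMod.IsFinLocFree (peval E P) :=
  DCat.PerfTensor.isFinLocFree_sigma _ fun _ => DCat.PerfTensor.isFinLocFree_sigma _ fun _ =>
    isFinLocFree_tensorPow hE _

variable [IsIntegral X] [IsLocallyNoetherian X]
  (k : Type u) [Field k] [X.Over (Spec (CommRingCat.of k))] [IsProper (X ↘ Spec (CommRingCat.of k))]

theorem mult_peval {T E : X.Modules} (hT : Indec T) (hTf : FlatMod.IsFinLocFree T)
    (hE : FlatMod.IsFinLocFree E) (P : Polynomial ℕ) (N : ℕ) (hN : P.natDegree < N) :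
    mult k hT (peval E P) = ∑ i ∈ Finset.range N, P.coeff i * mult k hT (CohB1.tensorPow E i) := by
  rw [mult_sigma k hT hTf _ fun _ => DCat.PerfTensor.isFinLocFree_sigma _ fun _ => isFinLocFree_tensorPow hE _,
    ← Finset.sum_subset (Finset.range_subset_range.2 (show P.natDegree + 1 ≤ N by omega))
      (fun i _ hi => by rw [Polynomial.coeff_eq_zero_of_natDegree_lt (by simpa using hi), zero_mul]),
    ← Fin.sum_univ_eq_sum_range fun i => P.coeff i * mult k hT (CohB1.tensorPow E i)]
  refine Finset.sum_congr rfl fun i _ => ?_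
  rw [mult_sigma k hT hTf _ fun _ => isFinLocFree_tensorPow hE _, Finset.sum_const, Finset.card_univ,
    Fintype.card_fin, smul_eq_mul]

include k in
theorem WF.bdd {E : X.Modules} (hE : FlatMod.IsFinLocFree E) (h : WF E) : Bdd E := by
  classical
  obtain ⟨P, Q, hne, ⟨e⟩⟩ := h
  let N := max P.natDegree Q.natDegree + 1
  let S := (Finset.range N).filter fun i => P.coeff i ≠ Q.coeff i
  have hS : S.Nonempty := by
    by_contra hS
    refine hne (Polynomial.ext fun i => ?_)
    by_contra hi
    rcases lt_or_ge i N with h | h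
    · exact hS ⟨i, Finset.mem_filter.2 ⟨Finset.mem_range.2 h, hi⟩⟩
    · exact hi (by rw [Polynomial.coeff_eq_zero_of_natDegree_lt (by omega),
        Polynomial.coeff_eq_zero_of_natDegree_lt (by omega)])
  obtain ⟨n, hn, hmax⟩ := S.exists_max_image id hS
  obtain ⟨hnN, hPQ⟩ := Finset.mem_filter.1 hn
  let F : Fin n → X.Modules := fun i => CohB1.tensorPow E ↑i
  have hMf : FlatMod.IsFinLocFree (∐ F) := DCat.PerfTensor.isFinLocFree_sigma _ fun _ => isFinLocFree_tensorPow hE _
  have hlow : ∀ i, i < n → Dom (∐ F) (CohB1.tensorPow E i) := fun i hi => Dom.of_sigma F ⟨i, hi⟩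
  have htop : Dom (∐ F) (CohB1.tensorPow E n) := by
    refine dom_of_indec_retracts k _ _ (isFinLocFree_tensorPow hE n) le_rfl fun T hT hTf r => ?_
    have hpos := (mult_pos_iff k hT hTf (isFinLocFree_tensorPow hE n)).2 ⟨r⟩
    have heq := mult_congr k hT e
    rw [mult_peval k hT hTf hE P N (by omega), mult_peval k hT hTf hE Q N (by omega)] at heq
    have hlower : ∃ i, i < n ∧ mult k hT (CohB1.tensorPow E i) ≠ 0 := by
      by_contra hc
      push Not at hc
      rw [← Finset.add_sum_erase _ _ hnN, ← Finset.add_sum_erase _ _ hnN] at heq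
      have hrest : ∀ i ∈ (Finset.range N).erase n,
          P.coeff i * mult k hT (CohB1.tensorPow E i) = Q.coeff i * mult k hT (CohB1.tensorPow E i) := fun i hi => by
        obtain ⟨hin, hiN⟩ := Finset.mem_erase.1 hi
        rcases Nat.lt_or_gt_of_ne hin with h | h
        · rw [hc i h, mul_zero, mul_zero]
        · by_contra hx
          have := hmax i (Finset.mem_filter.2 ⟨hiN, fun h' => hx (by rw [h'])⟩)
          simp only [id] at this
          omega
      rw [Finset.sum_congr rfl hrest] at heq
      exact hPQ (Nat.eq_of_mul_eq_mul_right (Nat.pos_of_ne_zero hpos) (by omega))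
    obtain ⟨i, hi, hmi⟩ := hlower
    obtain ⟨r'⟩ := (mult_pos_iff k hT hTf (isFinLocFree_tensorPow hE i)).1 hmi
    exact (hlow i hi).of_retract r'
  have hstep : Dom (∐ F) (CohB1.tensorMod (∐ F) E) := by
    haveI : HasFiniteBiproducts X.Modules := HasFiniteBiproducts.of_hasFiniteCoproducts
    let u := biproduct.isoCoproduct F
    refine Dom.of_iso ?_ ((SerreDual.twistF E).mapIso u.symm)
    refine Dom.of_total (Y := fun i => (SerreDual.twistF E).obj (F i)) (fun i => ?_)
      (fun i => (SerreDual.twistF E).map (biproduct.π F i)) (fun i => (SerreDual.twistF E).map (biproduct.ι F i)) ?_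
    · show Dom (∐ F) (CohB1.tensorPow E (↑i + 1))
      rcases Nat.lt_or_ge (↑i + 1) n with h | h
      · exact hlow _ h
      · rw [show (i : ℕ) + 1 = n by omega]; exact htop
    · rw [← CategoryTheory.Functor.map_id, ← biproduct.total, Functor.map_sum]
      exact Finset.sum_congr rfl fun j _ => ((SerreDual.twistF E).map_comp _ _).symm
  refine ⟨∐ F, hMf, fun m => ?_⟩
  induction m with
  | zero =>
    rcases Nat.eq_zero_or_pos n with h0 | h0
    · simpa only [h0] using htop
    · exact hlow 0 h0
  | succ m ih => exact hstep.trans (Dom.map (SerreDual.twistF E) ih)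

include k in
theorem Bdd.wf {E : X.Modules} (hE : FlatMod.IsFinLocFree E) (h : Bdd E) : WF E := by
  classical
  obtain ⟨M, hM, hdom⟩ := h
  obtain ⟨s, Ts, hs⟩ := exists_finite_indec k _ hM le_rfl
  let v : Fin (s + 1) → (Fin s → ℤ) := fun m j =>
    if h : ∃ hT : Indec (Ts j), FlatMod.IsFinLocFree (Ts j) then (mult k h.1 (CohB1.tensorPow E ↑m) : ℤ) else 0
  have hdep : ¬ LinearIndependent ℤ v := fun hli => by
    have := hli.fintype_card_le_finrank
    simp at this
  obtain ⟨g, hg, m₀, hm₀⟩ := Fintype.not_linearIndependent_iff.1 hdep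
  let P : Polynomial ℕ := ∑ m : Fin (s + 1), Polynomial.monomial ↑m (g m).toNat
  let Q : Polynomial ℕ := ∑ m : Fin (s + 1), Polynomial.monomial ↑m (- g m).toNat
  have hP : ∀ c : Fin (s + 1) → ℕ, ∀ m : Fin (s + 1),
      (∑ i : Fin (s + 1), Polynomial.monomial (↑i : ℕ) (c i)).coeff ↑m = c m := fun c m => by
    simp [Polynomial.finsetSum_coeff, Polynomial.coeff_monomial, Fin.val_inj]
  have hdeg : ∀ c : Fin (s + 1) → ℕ, (∑ i : Fin (s + 1), Polynomial.monomial (↑i : ℕ) (c i)).natDegree < s + 1 :=
    fun c => Nat.lt_succ_of_le (Polynomial.natDegree_sum_le_of_forall_le _ _ fun i _ =>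
      (Polynomial.natDegree_monomial_le _).trans (Nat.lt_succ_iff.1 i.isLt))
  refine ⟨P, Q, fun hPQ => hm₀ ?_, nonempty_iso_of_mult k _ (isFinLocFree_peval hE P) (isFinLocFree_peval hE Q)
    le_rfl fun T hT hTf => ?_⟩
  · have h1 := congrArg (fun p : Polynomial ℕ => p.coeff ↑m₀) hPQ
    simp only [P, Q, hP] at h1
    omega
  · rw [mult_peval k hT hTf hE P (s + 1) (hdeg _), mult_peval k hT hTf hE Q (s + 1) (hdeg _),
      ← Fin.sum_univ_eq_sum_range (fun i => P.coeff i * mult k hT (CohB1.tensorPow E i)),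
      ← Fin.sum_univ_eq_sum_range (fun i => Q.coeff i * mult k hT (CohB1.tensorPow E i))]
    simp only [P, Q, hP]
    by_cases hTM : mult k hT M = 0
    · have hz : ∀ m, mult k hT (CohB1.tensorPow E m) = 0 := fun m => by
        by_contra hc
        obtain ⟨r⟩ := (mult_pos_iff k hT hTf (isFinLocFree_tensorPow hE m)).1 hc
        exact mult_ne_zero_of_dom k hT hTf hM ((hdom m).of_retract r) hTM
      simp [hz]
    · obtain ⟨j, ⟨i⟩⟩ := hs T hT hTf hTM
      have hTj : Indec (Ts j) := ⟨fun h => hT.1 (h.of_iso i), fun f₁ f₂ h => by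
        have h' : IsIso (i.hom ≫ f₁ ≫ i.inv + i.hom ≫ f₂ ≫ i.inv) := by
          rw [← Preadditive.comp_add, ← Preadditive.add_comp]
          infer_instance
        rcases hT.2 _ _ h' with h1 | h1
        · refine Or.inl ?_
          have h2 : IsIso (i.inv ≫ (i.hom ≫ f₁ ≫ i.inv) ≫ i.hom) := inferInstance
          simpa using h2
        · refine Or.inr ?_
          have h2 : IsIso (i.inv ≫ (i.hom ≫ f₂ ≫ i.inv) ≫ i.hom) := inferInstance
          simpa using h2⟩
      have hTjf : FlatMod.IsFinLocFree (Ts j) := DCat.PerfTensor.isFinLocFree_of_iso i hTf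
      have hj := congrFun hg j
      have hv : ∀ m : Fin (s + 1), v m j = (mult k hT (CohB1.tensorPow E ↑m) : ℤ) := fun m => by
        simp only [v]
        rw [dif_pos ⟨hTj, hTjf⟩, mult_congr_left k hT hTj i]
      simp only [Finset.sum_apply, Pi.smul_apply, hv, smul_eq_mul, Pi.zero_apply] at hj
      rw [← Nat.cast_inj (R := ℤ)]
      push_cast
      rw [← sub_eq_zero, ← Finset.sum_sub_distrib, ← hj]
      refine Finset.sum_congr rfl fun m _ => ?_
      rw [← sub_mul, Int.toNat_sub_toNat_neg]

end Groth.Agent.WeilFin
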